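import Cfsg.Agent.H774.K0.Prime
import Cfsg.Prelude.Def_LieTypeChar
import Cfsg.Prelude.Def_Classification2

/-!
# KZ (S4824, S4852): the rows and the boxes

Plan: `notes/KZ/plan.md`.  The prime is `3`.

* `Mem M χ`: a *member*, that is an irreducible character of degree prime to `3` in the principal block;
* `k0 M G`: the number of members, `nab P = |P : P'|`;
* `Dich M G`: the dichotomy which gives both statements;
* `AS A N`: `A` is almost simple with socle `N`;
* the four rows `RowUp`, `RowLo`, `RowTwo`, `RowInv` of a family `K`, `Row K`;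
* the families, `Box`, and the case distinction `Box.all`.
-/

set_option autoImplicit false

namespace Cfsg.Agent.KZ

open Cfsg

universe u

/-- a member: degree prime to `3`, principal block -/
def Mem (M : Ideal AlgInt) {G : Type u} [Group G] (χ : IrrCharacter G) : Prop :=
  χ ∈ principalBlock M G ∧ ¬ 3 ∣ charDegree (χ : G → ℂ)

/-- the number of members -/
noncomputable abbrev k0 (M : Ideal AlgInt) (G : Type u) [Group G] : ℕ := H774.K0.k0 3 M G

theorem k0_eq (M : Ideal AlgInt) (G : Type u) [Group G] : k0 M G = Nat.card {χ : IrrCharacter G // Mem M χ} := rfl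

/-- the order of the abelianization of a Sylow `3`-subgroup -/
noncomputable def nab {G : Type u} [Group G] (P : Sylow 3 G) : ℕ := (commutator ↥(P : Subgroup G)).index

/-- the dichotomy -/
def Dich (M : Ideal AlgInt) (G : Type u) [Group G] : Prop :=
  ∀ P : Sylow 3 G, (nab P = 9 → k0 M G ≤ 9) ∧ (27 ≤ nab P → 10 ≤ k0 M G)

/-- `A` is almost simple with socle `N`, and `3` divides the order of `N` -/
structure AS (A : Type u) [Group A] (N : Subgroup A) : Prop where
  normal : N.Normal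
  simple : IsSimpleGroup ↥N
  nonab : ¬ IsMulCommutative ↥N
  cent : Subgroup.centralizer (N : Set A) = ⊥
  three : 3 ∣ Nat.card ↥N

/-- `α` is not the principal character -/
def Nontriv {S : Type u} [Group S] (α : IrrCharacter S) : Prop := (α : S → ℂ) ≠ fun _ => 1

/-- the automorphism `σ` fixes `α` -/
def Fixes {S : Type u} [Group S] (σ : MulAut S) (α : IrrCharacter S) : Prop :=
  ∀ s, (α : S → ℂ) (σ s) = (α : S → ℂ) s

/-- `α` and `β` are not conjugate under the automorphism group -/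
def Apart {S : Type u} [Group S] (α β : IrrCharacter S) : Prop :=
  ∀ σ : MulAut S, ¬ ∀ s, (α : S → ℂ) (σ s) = (β : S → ℂ) s

/-- two nontrivial members, not conjugate under the automorphism group -/
def Two (M : Ideal AlgInt) (S : Type u) [Group S] : Prop :=
  ∃ α β : IrrCharacter S, Mem M α ∧ Mem M β ∧ Nontriv α ∧ Nontriv β ∧ Apart α β

/-- (a) two nontrivial members fixed by `X`, not conjugate under the automorphism group -/
def InvA (M : Ideal AlgInt) {S : Type u} [Group S] (X : Subgroup (MulAut S)) : Prop :=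
  ∃ α β : IrrCharacter S, Mem M α ∧ Mem M β ∧ Nontriv α ∧ Nontriv β ∧ Apart α β ∧
    ∀ σ ∈ X, Fixes σ α ∧ Fixes σ β

/-- (b) one nontrivial member fixed by `X` whose stabiliser is cyclic modulo the inner automorphisms, and an automorphism
of order prime to `3` which centralises a Sylow `3`-subgroup is trivial (needed for `PSL₂(3 ^ f)` only) -/
def InvB (M : Ideal AlgInt) {S : Type u} [Group S] (X : Subgroup (MulAut S)) : Prop :=
  (∃ α : IrrCharacter S, Mem M α ∧ Nontriv α ∧ (∀ σ ∈ X, Fixes σ α) ∧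
    ∃ σ₀ : MulAut S, ∀ σ : MulAut S, Fixes σ α → ∃ (j : ℕ) (s : S), σ = σ₀ ^ j * MulAut.conj s) ∧
  ∀ (Q : Sylow 3 S) (σ : MulAut S), ¬ 3 ∣ orderOf σ → (∀ x ∈ (Q : Subgroup S), σ x = x) → σ = 1

/-- for every `3`-group of automorphisms, (a) or (b) -/
def Inv (M : Ideal AlgInt) (S : Type u) [Group S] : Prop :=
  ∀ X : Subgroup (MulAut S), IsPGroup 3 ↥X → InvA M X ∨ InvB M X

/-- one nontrivial member fixed by all automorphisms (this implies `Two` and `Inv`, box `ToolOne`) -/
def One (M : Ideal AlgInt) (S : Type u) [Group S] : Prop :=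
  ∃ α : IrrCharacter S, Mem M α ∧ Nontriv α ∧ ∀ σ : MulAut S, Fixes σ α

/-- A family of groups. -/
abbrev Fam : Type 1 := (S : Type) → [Group S] → Prop

/-- upper bound for the almost simple groups with socle in `K` -/
def RowUp (K : Fam) : Prop :=
  ∀ (M : Ideal AlgInt), IsPModular 3 M → ∀ (A : Type) [Group A] [Finite A] (N : Subgroup A), AS A N → K ↥N →
    ∀ P : Sylow 3 A, nab P = 9 → k0 M A ≤ 9

/-- lower bound for the almost simple groups with socle in `K` of index `3` or prime to `3` -/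
def RowLo (K : Fam) : Prop :=
  ∀ (M : Ideal AlgInt), IsPModular 3 M → ∀ (A : Type) [Group A] [Finite A] (N : Subgroup A), AS A N → K ↥N →
    (¬ 3 ∣ N.index ∨ N.index = 3) → ∀ P : Sylow 3 A, 27 ≤ nab P → 10 ≤ k0 M A

/-- `Two` for the simple groups in `K` with `3 ∣ |S|` -/
def RowTwo (K : Fam) : Prop :=
  ∀ (M : Ideal AlgInt), IsPModular 3 M → ∀ (S : Type) [Group S] [Finite S], IsSimpleGroup S → ¬ IsMulCommutative S →
    3 ∣ Nat.card S → K S → Two M S

/-- `Inv` for the simple groups in `K` with `3 ∣ |S|` -/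
def RowInv (K : Fam) : Prop :=
  ∀ (M : Ideal AlgInt), IsPModular 3 M → ∀ (S : Type) [Group S] [Finite S], IsSimpleGroup S → ¬ IsMulCommutative S →
    3 ∣ Nat.card S → K S → Inv M S

/-- `One` for the simple groups in `K` with `3 ∣ |S|` -/
def RowOne (K : Fam) : Prop :=
  ∀ (M : Ideal AlgInt), IsPModular 3 M → ∀ (S : Type) [Group S] [Finite S], IsSimpleGroup S → ¬ IsMulCommutative S →
    3 ∣ Nat.card S → K S → One M S

/-- the four rows -/
structure Row (K : Fam) : Prop where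
  up : RowUp K
  lo : RowLo K
  two : RowTwo K
  inv : RowInv K

/-- `One` gives `Two` and `Inv` (the number of members fixed by a `3`-group is divisible by `3`) -/
def ToolOne : Prop :=
  ∀ (M : Ideal AlgInt), IsPModular 3 M → ∀ (S : Type) [Group S] [Finite S], 3 ∣ Nat.card S → One M S →
    ∀ X : Subgroup (MulAut S), IsPGroup 3 ↥X → InvA M X

theorem InvA.two {M : Ideal AlgInt} {S : Type u} [Group S] {X : Subgroup (MulAut S)} (h : InvA M X) : Two M S := by
  obtain ⟨α, β, h1, h2, h3, h4, h5, -⟩ := h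
  exact ⟨α, β, h1, h2, h3, h4, h5⟩

theorem Row.of_one (hT : ToolOne) {K : Fam} (up : RowUp K) (lo : RowLo K) (one : RowOne K) : Row K where
  up := up
  lo := lo
  two M hM S _ _ h1 h2 h3 h4 :=
    (hT M hM S h3 (one M hM S h1 h2 h3 h4) ⊥ IsPGroup.of_bot).two
  inv M hM S _ _ h1 h2 h3 h4 X hX := .inl (hT M hM S h3 (one M hM S h1 h2 h3 h4) X hX)

theorem Row.mono {K L : Fam} (h : Row L) (hKL : ∀ (S : Type) [Group S], K S → L S) : Row K where
  up M hM A _ _ N h1 h2 := h.up M hM A N h1 (hKL _ h2)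
  lo M hM A _ _ N h1 h2 := h.lo M hM A N h1 (hKL _ h2)
  two M hM S _ _ h1 h2 h3 h4 := h.two M hM S h1 h2 h3 (hKL _ h4)
  inv M hM S _ _ h1 h2 h3 h4 := h.inv M hM S h1 h2 h3 (hKL _ h4)

theorem Row.or {K L : Fam} (h : Row K) (h' : Row L) : Row fun S _ => K S ∨ L S where
  up M hM A _ _ N h1 h2 := h2.elim (h.up M hM A N h1) (h'.up M hM A N h1)
  lo M hM A _ _ N h1 h2 := h2.elim (h.lo M hM A N h1) (h'.lo M hM A N h1)
  two M hM S _ _ h1 h2 h3 h4 := h4.elim (h.two M hM S h1 h2 h3) (h'.two M hM S h1 h2 h3)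
  inv M hM S _ _ h1 h2 h3 h4 := h4.elim (h.inv M hM S h1 h2 h3) (h'.inv M hM S h1 h2 h3)

/-! ### the families over fields of order prime to `3` -/

/-- `PSL_n(q)`, `3 ∤ q` -/
def PslX (S : Type) [Group S] : Prop :=
  ∃ (F : Type) (_ : Field F) (_ : Fintype F) (n : ℕ), ¬ 3 ∣ Fintype.card F ∧
    2 ≤ n ∧ (n = 2 → 4 ≤ Fintype.card F) ∧ Nonempty (S ≃* Matrix.ProjectiveSpecialLinearGroup (Fin n) F)

/-- `PSU_n(q)`, `3 ∤ q` -/
def PsuX (S : Type) [Group S] : Prop :=
  ∃ (F : Type) (_ : Field F) (_ : Fintype F) (n q : ℕ), ¬ 3 ∣ Fintype.card F ∧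
    Fintype.card F = q ^ 2 ∧ 3 ≤ n ∧ ¬ (n = 3 ∧ q = 2) ∧ Nonempty (S ≃* PSU n F q)

/-- `PSp_{2m}(q)`, `3 ∤ q` -/
def PspX (S : Type) [Group S] : Prop :=
  ∃ (F : Type) (_ : Field F) (_ : Fintype F) (m : ℕ), ¬ 3 ∣ Fintype.card F ∧
    2 ≤ m ∧ (m = 2 → 3 ≤ Fintype.card F) ∧ Nonempty (S ≃* PSp m F)

/-- `PΩ_{2m+1}(q)`, `q` odd, `3 ∤ q` -/
def OddX (S : Type) [Group S] : Prop :=
  ∃ (F : Type) (_ : Field F) (_ : Fintype F) (m : ℕ), ¬ 3 ∣ Fintype.card F ∧
    3 ≤ m ∧ Odd (Fintype.card F) ∧ Nonempty (S ≃* POmega F (quadFormOdd m F))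

/-- `PΩ⁺_{2m}(q)`, `3 ∤ q` -/
def PlusX (S : Type) [Group S] : Prop :=
  ∃ (F : Type) (_ : Field F) (_ : Fintype F) (m : ℕ), ¬ 3 ∣ Fintype.card F ∧
    4 ≤ m ∧ Nonempty (S ≃* POmega F (quadFormPlus m F))

/-- `PΩ⁻_{2m}(q)`, `3 ∤ q` -/
def MinusX (S : Type) [Group S] : Prop :=
  ∃ (F : Type) (_ : Field F) (_ : Fintype F) (m : ℕ) (a b : F), ¬ 3 ∣ Fintype.card F ∧
    4 ≤ m ∧ (∀ z₁ z₂ : F, z₁ ^ 2 + a * z₁ * z₂ + b * z₂ ^ 2 = 0 → z₁ = 0 ∧ z₂ = 0) ∧
    Nonempty (S ≃* POmega F (quadFormMinus (m - 1) F a b))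

/-- the Chevalley group of the datum `D` over a field with at least `c` elements and of order prime to `3` -/
def ChevX (D : Lie.ChevalleyDatum) (c : ℕ) (S : Type) [Group S] : Prop :=
  ∃ (F : Type) (_ : Field F) (_ : Fintype F), ¬ 3 ∣ Fintype.card F ∧ c ≤ Fintype.card F ∧ Nonempty (S ≃* D.group F)

/-- `²E₆(q)`, `3 ∤ q` -/
def TwE6X (S : Type) [Group S] : Prop :=
  ∃ (K : Type) (_ : Field K) (_ : Fintype K) (q : ℕ), ¬ 3 ∣ Fintype.card K ∧ IsPrimePow q ∧
    Fintype.card K = q ^ 2 ∧ Nonempty (S ≃* Lie.twistedE6 K q)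

/-- `³D₄(q)`, `3 ∤ q` -/
def TwD4X (S : Type) [Group S] : Prop :=
  ∃ (K : Type) (_ : Field K) (_ : Fintype K) (q : ℕ), ¬ 3 ∣ Fintype.card K ∧ IsPrimePow q ∧
    Fintype.card K = q ^ 3 ∧ Nonempty (S ≃* Lie.twistedD4 K q)

/-- All rows.  (The Suzuki groups have order prime to `3`: their row is empty.) -/
structure Box : Prop where
  alt : Row fun S _ => IsAlternating S
  spor : Row fun S _ => IsSporadicGroup S
  tits : Row fun S _ => Lie.IsoTits S
  three : Row fun S _ => IsLieTypeChar 3 S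
  psl : Row PslX
  psu : Row PsuX
  psp : Row PspX
  odd : Row OddX
  plus : Row PlusX
  minus : Row MinusX
  g2 : Row (ChevX Lie.chevG2 3)
  f4 : Row (ChevX Lie.chevF4 0)
  e6 : Row (ChevX Lie.chevE6 0)
  e7 : Row (ChevX Lie.chevE7 0)
  e8 : Row (ChevX Lie.chevE8 0)
  tw6 : Row TwE6X
  tw4 : Row TwD4X
  sz : Row fun S _ => Lie.IsoSuzuki S
  tf4 : Row fun S _ => Lie.Iso2F4 S

theorem char_or (F : Type) [Field F] [Fintype F] : ¬ 3 ∣ Fintype.card F ∨ CharP F 3 := by
  by_cases h : 3 ∣ Fintype.card F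
  · right
    obtain ⟨p, hp⟩ := CharP.exists F
    obtain ⟨n, hn, hc⟩ := FiniteField.card F p
    rw [hc] at h
    obtain rfl : 3 = p := (Nat.prime_dvd_prime_iff_eq Nat.prime_three hn).1 (Nat.prime_three.dvd_of_dvd_pow h)
    exact hp
  · exact .inl h

theorem row_prime : Row fun S _ => IsPrimeCyclic S := by
  have key : ∀ (S : Type) [Group S], ¬ IsMulCommutative S → ¬ IsPrimeCyclic S := fun S _ h1 h2 => by
    have : Fact (Nat.card S).Prime := ⟨h2⟩
    have hc : IsCyclic S := isCyclic_of_prime_card rfl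
    exact h1 inferInstance
  exact ⟨fun _ _ _ _ _ _ h1 h2 => absurd h2 (key _ h1.nonab), fun _ _ _ _ _ _ h1 h2 => absurd h2 (key _ h1.nonab),
    fun _ _ _ _ _ _ h1 _ h2 => absurd h2 (key _ h1), fun _ _ _ _ _ _ h1 _ h2 => absurd h2 (key _ h1)⟩

/-- The rows for all known simple groups. -/
theorem Box.all (B : Box) : Row fun S _ => IsKnownSimple' S := by
  refine (row_prime.or (B.alt.or (B.spor.or (B.tits.or (B.three.or (B.psl.or (B.psu.or (B.psp.or (B.odd.or (B.plus.or
    (B.minus.or (B.g2.or (B.f4.or (B.e6.or (B.e7.or (B.e8.or (B.tw6.or (B.tw4.or (B.sz.or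
    B.tf4))))))))))))))))))).mono ?_
  intro S _ h
  have ex : IsExceptionalChevChar 3 S → IsLieTypeChar 3 S :=
    fun h => .inr (.inr (.inr (.inr (.inr (.inr (.inl h))))))
  have tw : IsTwistedE6D4Char 3 S → IsLieTypeChar 3 S :=
    fun h => .inr (.inr (.inr (.inr (.inr (.inr (.inr (.inl h)))))))
  have h3 : IsLieTypeChar 3 S ∨ PslX S ∨ PsuX S ∨ PspX S ∨ OddX S ∨ PlusX S ∨ MinusX S ∨ ChevX Lie.chevG2 3 S ∨
      ChevX Lie.chevF4 0 S ∨ ChevX Lie.chevE6 0 S ∨ ChevX Lie.chevE7 0 S ∨ ChevX Lie.chevE8 0 S ∨ TwE6X S ∨ TwD4X S ∨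
      Lie.IsoSuzuki S ∨ Lie.Iso2F4 S ∨ IsPrimeCyclic S ∨ IsAlternating S ∨ IsSporadicGroup S ∨ Lie.IsoTits S := by
    rcases h with h | h | h | h | h | h | h | h | h | h
    · tauto
    · tauto
    · obtain ⟨F, _, _, n, h1, h2, h3⟩ := h
      rcases char_or F with h | h
      · exact .inr (.inl ⟨F, inferInstance, inferInstance, n, h, h1, h2, h3⟩)
      · exact .inl (.inl ⟨F, inferInstance, inferInstance, h, n, h1, h2, h3⟩)
    · obtain ⟨F, _, _, n, h1, h2, h3⟩ := h
      rcases char_or F with h | h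
      · exact .inr (.inr (.inr (.inl ⟨F, inferInstance, inferInstance, n, h, h1, h2, h3⟩)))
      · exact .inl (.inr (.inl ⟨F, inferInstance, inferInstance, h, n, h1, h2, h3⟩))
    · obtain ⟨F, _, _, n, q, h0, h1, h2, h3⟩ := h
      rcases char_or F with h | h
      · exact .inr (.inr (.inl ⟨F, inferInstance, inferInstance, n, q, h, h0, h1, h2, h3⟩))
      · exact .inl (.inr (.inr (.inl ⟨F, inferInstance, inferInstance, h, n, q, h0, h1, h2, h3⟩)))
    · obtain ⟨F, _, _, n, h1, h2, h3⟩ := h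
      rcases char_or F with h | h
      · exact .inr (.inr (.inr (.inr (.inl ⟨F, inferInstance, inferInstance, n, h, h1, h2, h3⟩))))
      · exact .inl (.inr (.inr (.inr (.inl ⟨F, inferInstance, inferInstance, h, n, h1, h2, h3⟩))))
    · obtain ⟨F, _, _, n, h1, h3⟩ := h
      rcases char_or F with h | h
      · exact .inr (.inr (.inr (.inr (.inr (.inl ⟨F, inferInstance, inferInstance, n, h, h1, h3⟩)))))
      · exact .inl (.inr (.inr (.inr (.inr (.inl ⟨F, inferInstance, inferInstance, h, n, h1, h3⟩)))))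
    · obtain ⟨F, _, _, n, a, b, h1, h2, h3⟩ := h
      rcases char_or F with h | h
      · exact .inr (.inr (.inr (.inr (.inr (.inr (.inl ⟨F, inferInstance, inferInstance, n, a, b, h, h1, h2, h3⟩))))))
      · exact .inl (.inr (.inr (.inr (.inr (.inr (.inl ⟨F, inferInstance, inferInstance, h, n, a, b, h1, h2, h3⟩))))))
    · rcases h with h | h | h | h | h | h | h | h | h | h | h
      · obtain ⟨F, _, _, h1, h3⟩ := h
        rcases char_or F with h | h
        · have : ChevX Lie.chevG2 3 S := ⟨F, inferInstance, inferInstance, h, h1, h3⟩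
          tauto
        · exact .inl (ex ⟨F, inferInstance, inferInstance, h, .inl ⟨h1, h3⟩⟩)
      · obtain ⟨F, _, _, h3⟩ := h
        rcases char_or F with h | h
        · have : ChevX Lie.chevF4 0 S := ⟨F, inferInstance, inferInstance, h, Nat.zero_le _, h3⟩
          tauto
        · exact .inl (ex ⟨F, inferInstance, inferInstance, h, .inr (.inl h3)⟩)
      · obtain ⟨F, _, _, h3⟩ := h
        rcases char_or F with h | h
        · have : ChevX Lie.chevE6 0 S := ⟨F, inferInstance, inferInstance, h, Nat.zero_le _, h3⟩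
          tauto
        · exact .inl (ex ⟨F, inferInstance, inferInstance, h, .inr (.inr (.inl h3))⟩)
      · obtain ⟨F, _, _, h3⟩ := h
        rcases char_or F with h | h
        · have : ChevX Lie.chevE7 0 S := ⟨F, inferInstance, inferInstance, h, Nat.zero_le _, h3⟩
          tauto
        · exact .inl (ex ⟨F, inferInstance, inferInstance, h, .inr (.inr (.inr (.inl h3)))⟩)
      · obtain ⟨F, _, _, h3⟩ := h
        rcases char_or F with h | h
        · have : ChevX Lie.chevE8 0 S := ⟨F, inferInstance, inferInstance, h, Nat.zero_le _, h3⟩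
          tauto
        · exact .inl (ex ⟨F, inferInstance, inferInstance, h, .inr (.inr (.inr (.inr h3)))⟩)
      · obtain ⟨F, _, _, q, h1, h2, h3⟩ := h
        rcases char_or F with h | h
        · have : TwE6X S := ⟨F, inferInstance, inferInstance, q, h, h1, h2, h3⟩
          tauto
        · exact .inl (tw ⟨F, inferInstance, inferInstance, h, q, h1, .inl ⟨h2, h3⟩⟩)
      · obtain ⟨F, _, _, q, h1, h2, h3⟩ := h
        rcases char_or F with h | h
        · have : TwD4X S := ⟨F, inferInstance, inferInstance, q, h, h1, h2, h3⟩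
          tauto
        · exact .inl (tw ⟨F, inferInstance, inferInstance, h, q, h1, .inr ⟨h2, h3⟩⟩)
      · tauto
      · exact .inl (.inr (.inr (.inr (.inr (.inr (.inr (.inr (.inr (.inr (.inr ⟨rfl, h⟩))))))))))
      · tauto
      · tauto
    · tauto
  tauto

/-- The reduction (universe `0`). -/
def BoxRed : Prop :=
  (Row fun S _ => IsKnownSimple' S) → ∀ (M : Ideal AlgInt), IsPModular 3 M → ∀ (G : Type) [Group G] [Finite G], Dich M G

end Cfsg.Agent.KZ
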